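import Groth.Prelude.Def_W4c5qllcourbesmultMultCrv
import Mathlib

/-! The ring `R[X]/(X^n)`: trace form and equivariant symmetrisation of linear maps. -/

set_option linter.unusedSectionVars false
set_option autoImplicit false

noncomputable section

namespace Groth.Agent.MultH

open Polynomial MultCrv

variable {R : Type*} [CommRing R] {n : ℕ}

theorem z_pow_n : z R n ^ n = 0 := by
  rw [z, ← map_pow, Ideal.Quotient.eq_zero_iff_mem]
  exact Ideal.mem_span_singleton_self _

theorem z_pow_eq_zero {k : ℕ} (h : n ≤ k) : z R n ^ k = 0 := by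
  obtain ⟨d, rfl⟩ := Nat.exists_eq_add_of_le h
  rw [pow_add, z_pow_n, zero_mul]

/-- The coefficient of `z^(n-1)`. -/
def tau (hn : 1 ≤ n) : Rn R n →ₗ[R] R where
  toFun x := Quotient.liftOn' x (fun p => p.coeff (n - 1)) (by
    intro p q h
    rw [Submodule.quotientRel_def, Ideal.mem_span_singleton, Polynomial.X_pow_dvd_iff] at h
    have := h (n - 1) (by omega)
    rwa [coeff_sub, sub_eq_zero] at this)
  map_add' x y := by
    induction x using Quotient.inductionOn' with | h p =>
    induction y using Quotient.inductionOn' with | h q =>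
    exact coeff_add p q _
  map_smul' r x := by
    induction x using Quotient.inductionOn' with | h p =>
    exact coeff_smul r p _

theorem tau_mk (hn : 1 ≤ n) (p : R[X]) :
    tau hn (Ideal.Quotient.mk (Ideal.span {(X : R[X]) ^ n}) p : Rn R n) = p.coeff (n - 1) := rfl

theorem tau_z_pow_mul (hn : 1 ≤ n) {k : ℕ} (hk : k < n) (p : R[X]) :
    tau hn (z R n ^ k * (Ideal.Quotient.mk _ p : Rn R n)) = p.coeff (n - 1 - k) := by
  rw [z, ← map_pow, ← map_mul, tau_mk, mul_comm, Polynomial.coeff_mul_X_pow',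
    if_pos (by omega)]

theorem decomp (hn : 1 ≤ n) (a : Rn R n) :
    a = ∑ k ∈ Finset.range n, tau hn (z R n ^ k * a) • z R n ^ (n - 1 - k) := by
  obtain ⟨p, rfl⟩ := Ideal.Quotient.mk_surjective a
  have h : ∀ k ∈ Finset.range n,
      tau hn (z R n ^ k * (Ideal.Quotient.mk (Ideal.span {(X : R[X]) ^ n}) p : Rn R n)) •
          z R n ^ (n - 1 - k) =
        Ideal.Quotient.mk _ (C (p.coeff (n - 1 - k)) * X ^ (n - 1 - k)) := by
    intro k hk
    rw [tau_z_pow_mul hn (Finset.mem_range.mp hk), z, ← map_pow, ← Polynomial.smul_eq_C_mul]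
    rfl
  rw [Finset.sum_congr rfl h, ← map_sum,
    Finset.sum_range_reflect (fun j => C (p.coeff j) * X ^ j) n, Ideal.Quotient.eq,
    Ideal.mem_span_singleton, Polynomial.X_pow_dvd_iff]
  intro d hd
  rw [coeff_sub, finsetSum_coeff, Finset.sum_eq_single d]
  · simp
  · intro b _ hb
    simp [coeff_X_pow, Ne.symm hb]
  · intro h'; exact absurd (Finset.mem_range.mpr hd) h'

theorem eq_zero_of_tau (hn : 1 ≤ n) {a : Rn R n} (h : ∀ k, tau hn (z R n ^ k * a) = 0) : a = 0 := by
  rw [decomp hn a]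
  simp [h]

instance : Module.Finite R (Rn R n) := by
  rcases Nat.eq_zero_or_pos n with rfl | hn
  · refine ⟨⟨∅, ?_⟩⟩
    rw [Finset.coe_empty, Submodule.span_empty]
    refine (eq_top_iff.mpr fun a _ => ?_)
    have : (1 : Rn R 0) = 0 := (pow_zero (z R 0)).symm.trans z_pow_n
    rw [Submodule.mem_bot, ← one_mul a, this, zero_mul]
  · classical
    refine ⟨⟨(Finset.range n).image fun k => z R n ^ k, eq_top_iff.mpr fun a _ => ?_⟩⟩
    rw [decomp hn a]
    refine Submodule.sum_mem _ fun k hk => Submodule.smul_mem _ _ (Submodule.subset_span ?_)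
    simp only [Finset.coe_image, Set.mem_image, Finset.mem_coe, Finset.mem_range]
    exact ⟨n - 1 - k, by have := Finset.mem_range.mp hk; omega, rfl⟩

variable {M P : Type*} [AddCommGroup M] [Module (Rn R n) M] [Module R M]
  [IsScalarTower R (Rn R n) M] [AddCommGroup P] [Module (Rn R n) P] [Module R P]
  [IsScalarTower R (Rn R n) P]

theorem smul_comm' (r : R) (a : Rn R n) (u : M) : r • a • u = a • r • u := by
  rw [← IsScalarTower.algebraMap_smul (Rn R n) r, ← IsScalarTower.algebraMap_smul (Rn R n) r u,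
    smul_smul, smul_smul, mul_comm]

/-- An `R`-linear map commuting with `z` is linear over `R[X]/(X^n)`. -/
theorem map_smul_of_z (hn : 1 ≤ n) (f : M →ₗ[R] P)
    (hz : ∀ u, f (z R n • u) = z R n • f u) (a : Rn R n) (u : M) : f (a • u) = a • f u := by
  have hpow : ∀ (k : ℕ) (u : M), f (z R n ^ k • u) = z R n ^ k • f u := by
    intro k
    induction k with
    | zero => simp
    | succ k ih => intro u; rw [pow_succ, mul_smul, ih, hz, smul_smul]
  rw [decomp hn a, Finset.sum_smul, Finset.sum_smul, map_sum]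
  refine Finset.sum_congr rfl fun k _ => ?_
  rw [smul_assoc, map_smul, hpow, smul_assoc]

/-- Symmetrisation `u ↦ ∑ z^(n-1-k) h(z^k u)` as an additive and `R`-linear map. -/
def symR (h : M →ₗ[R] P) : M →ₗ[R] P where
  toFun u := ∑ k ∈ Finset.range n, z R n ^ (n - 1 - k) • h (z R n ^ k • u)
  map_add' u v := by simp [smul_add, Finset.sum_add_distrib]
  map_smul' r u := by
    simp only [RingHom.id_apply, Finset.smul_sum]
    refine Finset.sum_congr rfl fun k _ => ?_
    rw [← smul_comm' r, map_smul, smul_comm' r]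

theorem symR_z (hn : 1 ≤ n) (h : M →ₗ[R] P) (u : M) :
    symR (n := n) h (z R n • u) = z R n • symR (n := n) h u := by
  obtain ⟨m, rfl⟩ : ∃ m, n = m + 1 := ⟨n - 1, by omega⟩
  simp only [symR, LinearMap.coe_mk, AddHom.coe_mk, Finset.smul_sum, smul_smul]
  rw [Finset.sum_range_succ, Finset.sum_range_succ']
  have h1 : z R (m + 1) ^ m * z R (m + 1) = 0 := by rw [← pow_succ, z_pow_n]
  have h2 : z R (m + 1) * z R (m + 1) ^ (m + 1 - 1 - 0) = 0 := by
    simp only [Nat.add_sub_cancel, Nat.sub_zero]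
    rw [mul_comm, h1]
  have h1' : (z R (m + 1) ^ m * z R (m + 1)) • u = 0 := by rw [h1]; exact zero_smul (Rn R (m + 1)) u
  have h2' : ∀ v : P, (z R (m + 1) * z R (m + 1) ^ (m + 1 - 1 - 0)) • v = 0 := fun v => by
    rw [h2]; exact zero_smul (Rn R (m + 1)) v
  rw [h1', h2', map_zero, smul_zero, add_zero, add_zero]
  refine Finset.sum_congr rfl fun k hk => ?_
  rw [← pow_succ, ← pow_succ']
  have := Finset.mem_range.mp hk
  congr 2
  omega

/-- Symmetrisation of an `R`-linear map. -/
def sym (hn : 1 ≤ n) (h : M →ₗ[R] P) : M →ₗ[Rn R n] P where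
  toFun := symR (n := n) h
  map_add' := map_add _
  map_smul' a u := map_smul_of_z hn _ (symR_z hn h) a u

theorem sym_apply (hn : 1 ≤ n) (h : M →ₗ[R] P) (u : M) :
    sym hn h u = ∑ k ∈ Finset.range n, z R n ^ (n - 1 - k) • h (z R n ^ k • u) := rfl

/-- The equivariant map to `R[X]/(X^n)` with given top coefficient. -/
def hat (hn : 1 ≤ n) (g : M →ₗ[R] R) : M →ₗ[Rn R n] Rn R n :=
  sym hn ((Algebra.linearMap R (Rn R n)).comp g)

theorem hat_apply (hn : 1 ≤ n) (g : M →ₗ[R] R) (u : M) :
    hat hn g u = ∑ k ∈ Finset.range n, g (z R n ^ k • u) • z R n ^ (n - 1 - k) := by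
  rw [hat, sym_apply]
  refine Finset.sum_congr rfl fun k _ => ?_
  rw [LinearMap.comp_apply, Algebra.linearMap_apply, smul_eq_mul, mul_comm]
  exact (Algebra.smul_def _ _).symm

theorem tau_z_pow (hn : 1 ≤ n) (k : ℕ) :
    tau hn (z R n ^ k) = if k = n - 1 then 1 else 0 := by
  rw [z, ← map_pow, tau_mk, coeff_X_pow]
  simp [eq_comm]

theorem tau_hat (hn : 1 ≤ n) (g : M →ₗ[R] R) (u : M) : tau hn (hat hn g u) = g u := by
  rw [hat_apply, map_sum, Finset.sum_eq_single 0]
  · simp [tau_z_pow]
  · intro b hb hb0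
    have := Finset.mem_range.mp hb
    rw [map_smul, tau_z_pow, if_neg (by omega), smul_zero]
  · simp; omega

theorem ext_tau (hn : 1 ≤ n) {f g : M →ₗ[Rn R n] Rn R n}
    (h : ∀ u, tau hn (f u) = tau hn (g u)) : f = g := by
  ext u
  refine sub_eq_zero.mp (eq_zero_of_tau hn fun k => ?_)
  have := h (z R n ^ k • u)
  rw [f.map_smul, g.map_smul, smul_eq_mul, smul_eq_mul] at this
  rw [mul_sub, map_sub, this, sub_self]

variable [IsDomain R]

theorem torsionFree_Rn (hn : 1 ≤ n) {r : R} (hr : r ≠ 0) {a : Rn R n} (h : r • a = 0) : a = 0 := by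
  refine eq_zero_of_tau hn fun k => ?_
  have := congrArg (fun b => tau hn (z R n ^ k * b)) h
  simp only [mul_zero, map_zero] at this
  rw [mul_smul_comm, map_smul, smul_eq_mul] at this
  exact (mul_eq_zero.mp this).resolve_left hr

end Groth.Agent.MultH
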