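import Groth.Agent.MultH.Basic

/-! Torsion-free modules over `R[X]/(X^n)`: duality and factorisation of `z^(n-1)`. -/

set_option linter.unusedSectionVars false
set_option autoImplicit false

noncomputable section

namespace Groth.Agent.MultH

open Polynomial MultCrv

universe u

variable {R : Type u} [CommRing R] [IsDomain R] [IsDiscreteValuationRing R] {n : ℕ}
variable {M : Type u} [AddCommGroup M] [Module (Rn R n) M] [Module R M]
  [IsScalarTower R (Rn R n) M]

theorem finite_R [Module.Finite (Rn R n) M] : Module.Finite R M := Module.Finite.trans (Rn R n) M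

theorem free_R [Module.Finite (Rn R n) M] [Module.IsTorsionFree R M] : Module.Free R M := by
  have := finite_R (R := R) (n := n) (M := M)
  exact Module.free_of_finite_type_torsion_free'

theorem isTorsionFree_of (h : ∀ (r : R) (u : M), r ≠ 0 → r • u = 0 → u = 0) :
    Module.IsTorsionFree R M :=
  (Submodule.isTorsionFree_iff_torsion_eq_bot).mpr (by
    rw [eq_bot_iff]
    intro u hu
    obtain ⟨⟨r, hr⟩, hru⟩ := (Submodule.mem_torsion_iff u).mp hu
    exact h r u (nonZeroDivisors.ne_zero hr) hru)

theorem eq_zero_of_smul [Module.IsTorsionFree R M] {r : R} {u : M} (hr : r ≠ 0) (h : r • u = 0) :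
    u = 0 :=
  (smul_eq_zero.mp h).resolve_left hr

variable {M' M'' : Type u} [AddCommGroup M'] [Module (Rn R n) M'] [Module R M']
  [IsScalarTower R (Rn R n) M'] [AddCommGroup M''] [Module (Rn R n) M''] [Module R M'']
  [IsScalarTower R (Rn R n) M'']

theorem exists_extend (hn : 1 ≤ n) [Module.Finite (Rn R n) M''] [Module.IsTorsionFree R M'']
    (f : M' →ₗ[Rn R n] M) (g : M →ₗ[Rn R n] M'') (hf : Function.Injective f)
    (hg : Function.Surjective g) (hfg : LinearMap.range f = LinearMap.ker g)
    (ψ : M' →ₗ[Rn R n] Rn R n) : ∃ θ : M →ₗ[Rn R n] Rn R n, θ ∘ₗ f = ψ := by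
  have := free_R (R := R) (n := n) (M := M'')
  obtain ⟨s, hs⟩ := Module.projective_lifting_property (g.restrictScalars R) LinearMap.id hg
  have hs' : ∀ x, g (s x) = x := fun x => LinearMap.congr_fun hs x
  have hmem : ∀ u : M, u - s (g u) ∈ LinearMap.range (f.restrictScalars R) := by
    intro u
    have : u - s (g u) ∈ LinearMap.ker g := by simp [hs']
    rw [← hfg] at this
    exact this
  let ρ : M →ₗ[R] M' := ((LinearEquiv.ofInjective (f.restrictScalars R) hf).symm.toLinearMap).comp
    ((LinearMap.id - s.comp (g.restrictScalars R)).codRestrict _ hmem)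
  have hρ : ∀ x, ρ (f x) = x := by
    intro x
    have h0 : g (f x) = 0 := by
      rw [← LinearMap.mem_ker, ← hfg]; exact LinearMap.mem_range_self f x
    apply hf
    have h1 : f (ρ (f x)) = f x - s (g (f x)) := by
      simp only [ρ, LinearMap.comp_apply, LinearEquiv.coe_coe]
      exact congrArg Subtype.val ((LinearEquiv.ofInjective (f.restrictScalars R) hf).apply_symm_apply _)
    rw [h1, h0, map_zero, sub_zero]
  refine ⟨hat hn (((tau hn).comp (ψ.restrictScalars R)).comp ρ), ext_tau hn fun x => ?_⟩
  rw [LinearMap.comp_apply, tau_hat, LinearMap.comp_apply, hρ]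
  rfl

theorem isTorsionFree_of_extend (hn : 1 ≤ n) [Module.Finite (Rn R n) M] [Module.IsTorsionFree R M]
    (f : M' →ₗ[Rn R n] M) (g : M →ₗ[Rn R n] M'') (hf : Function.Injective f)
    (hg : Function.Surjective g) (hfg : LinearMap.range f = LinearMap.ker g)
    (h : ∀ ψ : M' →ₗ[Rn R n] Rn R n, ∃ θ : M →ₗ[Rn R n] Rn R n, θ ∘ₗ f = ψ) :
    Module.IsTorsionFree R M'' := by
  classical
  have := finite_R (R := R) (n := n) (M := M)
  have hinj : Function.Injective (f.restrictScalars R) := hf
  have : Module.Finite R M' := Module.Finite.of_injective (f.restrictScalars R) hinj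
  have htf' : Module.IsTorsionFree R M' := isTorsionFree_of fun r u hr hru => hf (by
    rw [map_zero]
    refine eq_zero_of_smul (M := M) hr ?_
    rw [← LinearMap.map_smul_of_tower, hru, map_zero])
  have : Module.Free R M' := Module.free_of_finite_type_torsion_free'
  let b := Module.Free.chooseBasis R M'
  have hext : ∀ i, ∃ G : M →ₗ[R] R, ∀ x, G (f x) = b.coord i x := fun i => by
    obtain ⟨θ, hθ⟩ := h (hat hn (b.coord i))
    refine ⟨(tau hn).comp (θ.restrictScalars R), fun x => ?_⟩
    change tau hn (θ (f x)) = _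
    rw [← LinearMap.comp_apply, hθ, tau_hat]
  choose G hG using hext
  refine isTorsionFree_of fun r v hr hrv => ?_
  obtain ⟨u, rfl⟩ := hg v
  have hru : r • u ∈ LinearMap.range f := by
    rw [hfg, LinearMap.mem_ker, LinearMap.map_smul_of_tower, hrv]
  obtain ⟨x, hx⟩ := hru
  have hx' : f x = r • f (∑ i, G i u • b i) := by
    rw [← LinearMap.map_smul_of_tower]
    congr 1
    rw [Finset.smul_sum]
    conv_lhs => rw [← b.sum_repr x]
    refine Finset.sum_congr rfl fun i _ => ?_
    have h1 : b.repr x i = r * G i u := by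
      rw [← smul_eq_mul, ← map_smul, ← hx, hG]; rfl
    rw [h1, mul_smul]
  have h2 : u - f (∑ i, G i u • b i) = 0 := eq_zero_of_smul hr (by rw [smul_sub, ← hx, hx', sub_self])
  rw [sub_eq_zero.mp h2, ← LinearMap.mem_ker, ← hfg]
  exact LinearMap.mem_range_self _ _

theorem exists_factor_pow [Module.Finite (Rn R n) M] [Module.IsTorsionFree R M] (hn : 1 ≤ n)
    {F : Type u} [AddCommGroup F] [Module (Rn R n) F] [Module R F] [IsScalarTower R (Rn R n) F]
    (p : F →ₗ[Rn R n] M) (hp : Function.Surjective p) :
    ∃ θ : M →ₗ[Rn R n] F, p ∘ₗ θ = z R n ^ (n - 1) • LinearMap.id := by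
  have := free_R (R := R) (n := n) (M := M)
  have := finite_R (R := R) (n := n) (M := M)
  let T : Submodule R M := (filt2 R n M (n - 1)).restrictScalars R
  have : Module.IsTorsionFree R (M ⧸ T) := by
    refine (Submodule.isTorsionFree_iff_torsion_eq_bot).mpr (eq_bot_iff.mpr fun v hv => ?_)
    obtain ⟨⟨r, hr⟩, hrv⟩ := (Submodule.mem_torsion_iff v).mp hv
    induction v using Submodule.Quotient.induction_on with | H u =>
    rw [Submodule.mem_bot, Submodule.Quotient.mk_eq_zero]
    change r • Submodule.Quotient.mk u = (0 : M ⧸ T) at hrv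
    rw [← Submodule.Quotient.mk_smul, Submodule.Quotient.mk_eq_zero] at hrv
    change z R n ^ (n - 1) • (r • u) = 0 at hrv
    change z R n ^ (n - 1) • u = 0
    rw [← smul_comm'] at hrv
    exact eq_zero_of_smul (nonZeroDivisors.ne_zero hr) hrv
  have : Module.Free R (M ⧸ T) := Module.free_of_finite_type_torsion_free'
  obtain ⟨s, hs⟩ := Module.projective_lifting_property T.mkQ LinearMap.id
    (Submodule.mkQ_surjective T)
  obtain ⟨σ, hσ⟩ := Module.projective_lifting_property (p.restrictScalars R) LinearMap.id hp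
  have hσ' : ∀ x, p (σ x) = x := fun x => LinearMap.congr_fun hσ x
  refine ⟨sym hn (σ.comp (s.comp T.mkQ)), LinearMap.ext fun u => ?_⟩
  rw [LinearMap.comp_apply, sym_apply, map_sum, Finset.sum_eq_single 0]
  · simp only [Nat.sub_zero, pow_zero, one_smul, LinearMap.comp_apply, map_smul, hσ']
    have h1 : u - s (T.mkQ u) ∈ T := by
      rw [← Submodule.Quotient.mk_eq_zero, Submodule.Quotient.mk_sub]
      exact sub_eq_zero.mpr (LinearMap.congr_fun hs (T.mkQ u)).symm
    change z R n ^ (n - 1) • (u - s (T.mkQ u)) = 0 at h1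
    rw [smul_sub, sub_eq_zero] at h1
    simp [h1]
  · intro k hk hk0
    have hk' := Finset.mem_range.mp hk
    have : T.mkQ (z R n ^ k • u) = 0 := by
      rw [Submodule.mkQ_apply, Submodule.Quotient.mk_eq_zero]
      change z R n ^ (n - 1) • (z R n ^ k • u) = 0
      rw [smul_smul, ← pow_add, z_pow_eq_zero (by omega)]
      exact zero_smul (Rn R n) u
    simp [this]
  · simp; omega

end Groth.Agent.MultH
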