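import Groth.Agent.MultH.Duality

/-! Ext over `R[X]/(X^n)`. -/

set_option linter.unusedSectionVars false
set_option autoImplicit false

noncomputable section

namespace Groth.Agent.MultH

open MultCrv CategoryTheory Abelian

universe u

variable {R : Type u} [CommRing R] [IsDomain R] [IsDiscreteValuationRing R] {n : ℕ}

/-- A surjection from a finite free module whose kernel is finite and torsion-free over `R`. -/
theorem exists_cover (hn : 1 ≤ n) (M : Type u) [AddCommGroup M] [Module (Rn R n) M]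
    [Module.Finite (Rn R n) M] :
    ∃ (r : ℕ) (p : (Fin r → Rn R n) →ₗ[Rn R n] M), Function.Surjective p ∧
      Module.Finite (Rn R n) (LinearMap.ker p) ∧ Module.IsTorsionFree R (LinearMap.ker p) := by
  obtain ⟨r, p, hp⟩ := Module.Finite.exists_fin' (Rn R n) M
  have : IsNoetherianRing (Rn R n) := inferInstance
  refine ⟨r, p, hp, inferInstance, isTorsionFree_of fun c u hc hcu => ?_⟩
  apply Subtype.ext
  funext i
  exact torsionFree_Rn hn hc (congrFun (congrArg Subtype.val hcu) i)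

theorem torsionFree_free (hn : 1 ≤ n) (r : ℕ) : Module.IsTorsionFree R (Fin r → Rn R n) :=
  isTorsionFree_of fun c u hc hcu => funext fun i => torsionFree_Rn hn hc (congrFun hcu i)

instance projective_of_pi (r : ℕ) : Projective (ModuleCat.of (Rn R n) (Fin r → Rn R n)) :=
  ModuleCat.projective_of_free (Pi.basisFun (Rn R n) (Fin r))

variable {M : Type u} [AddCommGroup M] [Module (Rn R n) M]

theorem exists_preimage_extClass {r : ℕ} (p : (Fin r → Rn R n) →ₗ[Rn R n] M)
    (hp : Function.Surjective p) (Y : ModuleCat.{u} (Rn R n)) {j i : ℕ} (h : 1 + j = i)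
    (x : Ext (ModuleCat.of (Rn R n) M) Y i) :
    ∃ x₁ : Ext (ModuleCat.of (Rn R n) (LinearMap.ker p)) Y j,
      (LinearMap.shortExact_shortComplexKer hp).extClass.comp x₁ h = x := by
  subst h
  refine Ext.contravariant_sequence_exact₃ (LinearMap.shortExact_shortComplexKer hp) Y x ?_ rfl
  generalize (Ext.mk₀ p.shortComplexKer.g).comp x (zero_add _) = w
  revert w
  rw [add_comm 1 j]
  exact fun w => Ext.eq_zero_of_projective w

/-- Vanishing of `Ext` into the ring for torsion-free modules. -/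
theorem ext_self_eq_zero (hn : 1 ≤ n) : ∀ (i : ℕ) (M : Type u) [AddCommGroup M]
    [Module (Rn R n) M] [Module R M] [IsScalarTower R (Rn R n) M] [Module.Finite (Rn R n) M]
    [Module.IsTorsionFree R M],
    ∀ x : Ext (ModuleCat.of (Rn R n) M) (ModuleCat.of (Rn R n) (Rn R n)) (i + 1), x = 0 := by
  intro i
  induction i with
  | zero =>
    intro M _ _ _ _ _ _ x
    obtain ⟨r, p, hp, hfin, htf⟩ := exists_cover (R := R) hn M
    obtain ⟨x₁, hx₁⟩ := exists_preimage_extClass p hp _ (show 1 + 0 = 0 + 1 by rfl) x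
    obtain ⟨ψ, rfl⟩ := (Ext.mk₀_bijective _ _).2 x₁
    obtain ⟨θ, hθ⟩ := exists_extend hn (LinearMap.ker p).subtype p Subtype.val_injective hp
      (Submodule.range_subtype _) ψ.hom
    have hψ : ψ = p.shortComplexKer.f ≫ ModuleCat.ofHom θ := ModuleCat.hom_ext hθ.symm
    rw [← hx₁, hψ, ← Ext.mk₀_comp_mk₀]
    exact ShortComplex.ShortExact.extClass_comp_assoc _ _
  | succ i ih =>
    intro M _ _ _ _ _ _ x
    obtain ⟨r, p, hp, hfin, htf⟩ := exists_cover (R := R) hn M
    obtain ⟨x₁, rfl⟩ := exists_preimage_extClass p hp _ (show 1 + (i + 1) = i + 1 + 1 by omega) x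
    rw [ih (LinearMap.ker p) x₁, Ext.comp_zero]

theorem ext_self_eq_zero_two (hn : 1 ≤ n) [Module.Finite (Rn R n) M] {i : ℕ}
    (x : Ext (ModuleCat.of (Rn R n) M) (ModuleCat.of (Rn R n) (Rn R n)) (i + 2)) : x = 0 := by
  obtain ⟨r, p, hp, hfin, htf⟩ := exists_cover (R := R) hn M
  obtain ⟨x₁, rfl⟩ := exists_preimage_extClass p hp _ (show 1 + (i + 1) = i + 2 by omega) x
  rw [ext_self_eq_zero hn i (LinearMap.ker p) x₁, Ext.comp_zero]

theorem isTorsionFree_of_ext_one [Module R M] [IsScalarTower R (Rn R n) M]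
    [Module.Finite (Rn R n) M] (hn : 1 ≤ n)
    (h : Subsingleton (Ext (ModuleCat.of (Rn R n) M) (ModuleCat.of (Rn R n) (Rn R n)) 1)) :
    Module.IsTorsionFree R M := by
  obtain ⟨r, p, hp, hfin, htf⟩ := exists_cover (R := R) hn M
  have := torsionFree_free (R := R) hn r
  refine isTorsionFree_of_extend hn (LinearMap.ker p).subtype p Subtype.val_injective hp
    (Submodule.range_subtype _) fun ψ => ?_
  obtain ⟨x₂, hx₂⟩ := Ext.contravariant_sequence_exact₁ (LinearMap.shortExact_shortComplexKer hp)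
    (ModuleCat.of (Rn R n) (Rn R n)) (Ext.mk₀ (ModuleCat.ofHom ψ)) (show 1 + 0 = 1 from rfl)
    (Subsingleton.elim _ _)
  obtain ⟨θ, rfl⟩ := (Ext.mk₀_bijective _ _).2 x₂
  rw [Ext.mk₀_comp_mk₀] at hx₂
  exact ⟨θ.hom, congrArg ModuleCat.Hom.hom ((Ext.mk₀_bijective _ _).1 hx₂)⟩

theorem smul_ext_eq {A : Type u} [CommRing A] {X Y : ModuleCat.{u} A} (a : A) {j : ℕ}
    (x : Ext X Y j) : a • x = (Ext.mk₀ (a • 𝟙 X)).comp x (zero_add j) := by
  rw [Ext.mk₀_smul, Ext.smul_comp, Ext.mk₀_id_comp]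

theorem zpow_smul_eq_zero [Module R M] [IsScalarTower R (Rn R n) M]
    [Module.Finite (Rn R n) M] [Module.IsTorsionFree R M] (hn : 1 ≤ n)
    (Y : ModuleCat.{u} (Rn R n)) {j : ℕ}
    (x : Ext (ModuleCat.of (Rn R n) M) Y (j + 1)) : z R n ^ (n - 1) • x = 0 := by
  obtain ⟨r, p, hp, hfin, htf⟩ := exists_cover (R := R) hn M
  obtain ⟨θ, hθ⟩ := exists_factor_pow hn p hp
  have hθ' : z R n ^ (n - 1) • 𝟙 (ModuleCat.of (Rn R n) M) =
      ModuleCat.ofHom θ ≫ ModuleCat.ofHom p := ModuleCat.hom_ext hθ.symm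
  have hx : (Ext.mk₀ (ModuleCat.ofHom p)).comp x (zero_add _) = 0 :=
    Ext.eq_zero_of_projective _
  refine (smul_ext_eq (z R n ^ (n - 1)) x).trans ?_
  rw [hθ', ← Ext.mk₀_comp_mk₀_assoc, hx, Ext.comp_zero]

theorem zpow_smul_eq_zero_two [Module.Finite (Rn R n) M] (hn : 1 ≤ n)
    (Y : ModuleCat.{u} (Rn R n)) {i : ℕ}
    (x : Ext (ModuleCat.of (Rn R n) M) Y (i + 2)) : z R n ^ (n - 1) • x = 0 := by
  obtain ⟨r, p, hp, hfin, htf⟩ := exists_cover (R := R) hn M
  obtain ⟨x₁, rfl⟩ := exists_preimage_extClass p hp Y (show 1 + (i + 1) = i + 2 by omega) x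
  rw [← Ext.comp_smul, zpow_smul_eq_zero hn Y x₁, Ext.comp_zero]

end Groth.Agent.MultH
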